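import Groth.Agent.LocVanShLib.Basic
import Groth.Agent.LocSuppLib.LCQCoh
import Groth.Agent.InjModLib.GammaZ
import Groth.Agent.LocSuppLib.HZVanish
import Groth.Agent.KoszPowLib.Basic
import Groth.Agent.FlatLib.QStalk
import Groth.Prelude.Def_FlatMod2

/-! # Local cohomology sheaves of a closed set cut out by finitely many equations -/

set_option autoImplicit false
set_option backward.isDefEq.respectTransparency false
set_option backward.isDefEq.respectTransparency.types false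
set_option linter.style.haveILetI false

universe u

open CategoryTheory CategoryTheory.Limits AlgebraicGeometry TopologicalSpace Opposite

noncomputable section

namespace LocEqnLib

variable {X : Scheme.{u}}

theorem flat_sections (M : X.Modules) [Coh.IsQCoh M] (hfl : FlatMod.IsFlat M) {U : X.Opens}
    (hU : IsAffineOpen U) : Module.Flat Γ(X, U) Γ(M, U) := by
  refine Module.flat_of_localized_maximal _ fun P _ => ?_
  let x : X := hU.fromSpec ⟨P, inferInstance⟩
  have hx : x ∈ U := hU.range_fromSpec.le ⟨⟨P, inferInstance⟩, rfl⟩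
  have hP : (hU.primeIdealOf ⟨x, hx⟩).asIdeal = P :=
    congrArg PrimeSpectrum.asIdeal (hU.fromSpec.injective (hU.fromSpec_primeIdealOf ⟨x, hx⟩))
  letI := Module.compHom (M.presheaf.stalk x) (X.presheaf.germ U x hx).hom
  letI : Algebra Γ(X, U) (X.presheaf.stalk x) := (X.presheaf.germ U x hx).hom.toAlgebra
  haveI : IsScalarTower Γ(X, U) (X.presheaf.stalk x) (M.presheaf.stalk x) :=
    IsScalarTower.of_algebraMap_smul fun _ _ ↦ rfl
  haveI : IsLocalization.AtPrime (X.presheaf.stalk x) (hU.primeIdealOf ⟨x, hx⟩).asIdeal :=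
    hU.isLocalization_stalk ⟨x, hx⟩
  haveI : Module.Flat Γ(X, U) (X.presheaf.stalk x) :=
    IsLocalization.flat _ (hU.primeIdealOf ⟨x, hx⟩).asIdeal.primeCompl
  haveI : Module.Flat (X.presheaf.stalk x) (M.presheaf.stalk x) := hfl x
  haveI := Module.Flat.trans Γ(X, U) (X.presheaf.stalk x) (M.presheaf.stalk x)
  haveI : IsLocalizedModule P.primeCompl (FlatLib.germLin M hx) := by
    have := FlatLib.isLocalizedModule_germLin M hU hx
    simpa only [hP] using this
  exact Module.Flat.of_linearEquiv (IsLocalizedModule.iso P.primeCompl (FlatLib.germLin M hx))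

variable (U : X.Opens) {M : X.Modules}

/-- Cohomology with supports in a closed set cut out on an affine open by finitely many sections is given
by the Koszul colimit. -/
theorem subsingleton_HZ_affine [Coh.IsQCoh M] {V : X.Opens} (hV : IsAffineOpen V)
    (fs : List Γ(X, V.ι ''ᵁ ⊤))
    (hfs : (⨆ a : Fin fs.length, X.basicOpen (fs.get a)) = U ⊓ V.ι ''ᵁ ⊤) (i : ℕ)
    (h : ∀ (N : ModuleCat.{u} Γ(X, V.ι ''ᵁ ⊤)) (_ : N ≅ ModuleCat.of Γ(X, V.ι ''ᵁ ⊤) Γ(M, V.ι ''ᵁ ⊤)),
      Subsingleton (CohIII.koszulHLim fs N i)) :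
    Subsingleton (LocCohZ.HZ (X := X.carrier) (Coh.toAb M) i (inf_le_right : U ⊓ V ≤ V)) := by
  haveI : IsAffine V.toScheme := hV
  have hVV : V.ι ''ᵁ ⊤ = V := by simp
  haveI : Coh.IsQCoh (M.restrict V.ι) :=
    have := KFlatLib.isQCoh_pullback V.ι M
    QCohLib.isQCoh_of_iso ((Scheme.Modules.restrictFunctorIsoPullback V.ι).app M).symm
  let fs' : List Γ(V.toScheme, ⊤) := fs
  have h1 : ∀ a, V.ι ''ᵁ V.toScheme.basicOpen (fs'.get a) = X.basicOpen (fs.get a) := fun a => by
    rw [Scheme.image_basicOpen, Scheme.Opens.ι_appIso]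
    rfl
  have h2 : V.ι ''ᵁ (⨆ j, KoszLib.Uf fs'.get j) = U ⊓ V := by
    rw [Scheme.Hom.image_iSup, ← congrArg (U ⊓ ·) hVV, ← hfs]
    exact le_antisymm (iSup_le fun j => (h1 j.down).le.trans (le_iSup (fun a => X.basicOpen (fs.get a)) j.down))
      (iSup_le fun a => (h1 a).ge.trans (le_iSup (fun j => V.ι ''ᵁ KoszLib.Uf fs'.get j) ⟨a⟩))
  have hin : (⨆ j, KoszLib.Uf fs'.get j) = SuppFam.inOpen (X := X.carrier) V U := by
    apply Opens.ext
    apply Set.image_injective.mpr Subtype.val_injective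
    exact (congrArg (fun O : X.Opens => (O : Set X)) h2).trans
      (congrArg (fun O : X.Opens => (O : Set X)) (LocSuppLib.img_inOpen (X := X.carrier) U V).symm)
  have hsm : ∀ (r : Γ(V.toScheme, ⊤)) (m : Γ(M.restrict V.ι, ⊤)),
      (r • m : Γ(M.restrict V.ι, ⊤)) = ((show Γ(X, V.ι ''ᵁ ⊤) from r) • (show Γ(M, V.ι ''ᵁ ⊤) from m)) := by
    intro r m
    change ((V.ι.appIso ⊤).inv r : Γ(X, V.ι ''ᵁ ⊤)) • (show Γ(M, V.ι ''ᵁ ⊤) from m) = _
    rw [Scheme.Opens.ι_appIso]
    rfl
  letI : Module Γ(X, V.ι ''ᵁ ⊤) Γ(M.restrict V.ι, ⊤) := inferInstanceAs (Module Γ(V.toScheme, ⊤) Γ(M.restrict V.ι, ⊤))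
  let l : Γ(M.restrict V.ι, ⊤) ≃ₗ[Γ(X, V.ι ''ᵁ ⊤)] Γ(M, V.ι ''ᵁ ⊤) :=
    { toFun := fun m => m
      invFun := fun m => m
      map_add' := fun _ _ => rfl
      map_smul' := fun r m => hsm r m
      left_inv := fun _ => rfl
      right_inv := fun _ => rfl }
  obtain ⟨e⟩ := LocSuppLib.nonempty_HZ_restr_equiv (X := X.carrier) U (Coh.toAb M) V i
  obtain ⟨e₁⟩ := KoszLib.nonempty_HZc_equiv (M.restrict V.ι) fs' i
  haveI : Subsingleton (CohIII.koszulHLim fs' (ModuleCat.of Γ(V.toScheme, ⊤) Γ(M.restrict V.ι, ⊤)) i) :=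
    h (ModuleCat.of Γ(X, V.ι ''ᵁ ⊤) Γ(M.restrict V.ι, ⊤)) l.toModuleIso
  haveI h3 := e₁.toEquiv.symm.subsingleton
  rw [e.toEquiv.subsingleton_congr]
  rw [hin] at h3
  exact h3

/-- Restricting equations. -/
theorem iSup_basicOpen_restr {V W : X.Opens} (hWV : W ≤ V) (fs : List Γ(X, V))
    (hT : X.zeroLocus (U := V) {a | a ∈ fs} ∩ (V : Set X) = (U : Set X)ᶜ ∩ (V : Set X)) :
    (⨆ a : Fin (fs.map (X.presheaf.map (homOfLE hWV).op).hom).length,
      X.basicOpen ((fs.map (X.presheaf.map (homOfLE hWV).op).hom).get a)) = U ⊓ W := by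
  ext x
  rw [SetLike.mem_coe, SetLike.mem_coe, Opens.mem_iSup]
  have hx : x ∈ V → ((∃ f ∈ fs, x ∈ X.basicOpen f) ↔ x ∈ U) := fun hxV => by
    have := Set.ext_iff.1 hT x
    simp only [Set.mem_inter_iff, Scheme.mem_zeroLocus_iff, Set.mem_setOf_eq, Set.mem_compl_iff, SetLike.mem_coe,
      hxV, and_true] at this
    constructor
    · rintro ⟨f, hf, hfx⟩
      by_contra hU
      exact this.2 hU f hf hfx
    · intro hU
      by_contra hne
      push Not at hne
      exact this.1 hne hU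
  constructor
  · rintro ⟨a, ha⟩
    obtain ⟨f, hf, hfa⟩ := List.mem_map.1 (List.get_mem _ a)
    rw [← hfa, Scheme.basicOpen_res] at ha
    exact ⟨(hx (hWV ha.1)).1 ⟨f, hf, ha.2⟩, ha.1⟩
  · rintro ⟨hxU, hxW⟩
    obtain ⟨f, hf, hfx⟩ := (hx (hWV hxW)).2 hxU
    obtain ⟨a, ha⟩ := List.mem_iff_get.1 (List.mem_map_of_mem (f := (X.presheaf.map (homOfLE hWV).op).hom) hf)
    exact ⟨a, by rw [ha, Scheme.basicOpen_res]; exact ⟨hxW, hfx⟩⟩

variable [HasInjectiveResolutions X.Modules]

theorem isIso_unit_top (F : X.Modules) :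
    IsIso ((Scheme.Modules.restrictAdjunction (⊤ : X.Opens).ι).unit.app F) :=
  Scheme.Modules.Hom.isIso_iff_isIso_app.2 fun O => (ConcreteCategory.isIso_iff_bijective _).2
    (InjModLib.unit_app_bijective (⊤ : X.Opens).ι F (by rw [Scheme.Opens.opensRange_ι]; exact le_top))

/-- `Γ_Z` agrees with its locally closed version inside the whole space. -/
noncomputable def gammaLCTopIso : LocSuppLib.gammaLC (V₁ := (⊤ : X.Opens)) (V₂ := U) ≅ DCoh.gammaZ U.ι :=
  haveI : IsIso (Scheme.Modules.restrictAdjunction (⊤ : X.Opens).ι).unit :=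
    haveI : ∀ F, IsIso ((Scheme.Modules.restrictAdjunction (⊤ : X.Opens).ι).unit.app F) := isIso_unit_top
    NatIso.isIso_of_isIso_app _
  Functor.isoWhiskerRight (asIso (Scheme.Modules.restrictAdjunction (⊤ : X.Opens).ι).unit).symm _ ≪≫ Functor.leftUnitor _

omit [HasInjectiveResolutions X.Modules] in
theorem subsingleton_HZ_congr_right (F : CohTop.Ab X.carrier) {W V V' : X.Opens} (e : V = V') (h : W ≤ V) (h' : W ≤ V') (i : ℕ) :
    Subsingleton (LocCohZ.HZ (X := X.carrier) F i h) ↔ Subsingleton (LocCohZ.HZ (X := X.carrier) F i h') := by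
  subst e; exact Iff.rfl

/-- Vanishing of the cohomology with supports on a basis kills the local cohomology sheaf. -/
theorem isZero_rightDerived_gammaZ (F : X.Modules) {B : Set X.Opens} (hB : Opens.IsBasis B) (i : ℕ)
    (h : ∀ V ∈ B, Subsingleton (LocCohZ.HZ (X := X.carrier) (Coh.toAb F) i (inf_le_right : U ⊓ V ≤ V))) :
    IsZero (((DCoh.gammaZ U.ι).rightDerived i).obj F) := by
  let I := injectiveResolution F
  have hle : U ≤ (⊤ : X.Opens) := le_top
  obtain ⟨e⟩ := LocSuppLib.nonempty_toAb_gammaLC_iso hle I i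
  obtain ⟨e'⟩ := LocSuppLib.nonempty_HZshLC_iso_sheafify (X := X.carrier) hle (Coh.toAb F) i
  have hz : IsZero ((presheafToSheaf (Opens.grothendieckTopology X.carrier) AddCommGrpCat.{u}).obj
      (SuppFam.HZpre (Coh.toAb F) i hle)) := by
    let J := Opens.grothendieckTopology X.carrier
    rw [IsZero.iff_id_eq_zero]
    apply ((sheafificationAdjunction J AddCommGrpCat.{u}).homEquiv _ _).injective
    ext V s
    apply TopCat.Presheaf.section_ext (show TopCat.Sheaf AddCommGrpCat X.carrier from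
      (presheafToSheaf J AddCommGrpCat.{u}).obj (SuppFam.HZpre (Coh.toAb F) i hle)) V.unop
    intro x hx
    obtain ⟨W, hW, hxW, hWV⟩ := Opens.isBasis_iff_nbhd.mp hB hx
    have hs : Subsingleton ((SuppFam.HZpre (Coh.toAb F) i hle).obj (op W)) := by
      have h1 := h W hW
      exact (subsingleton_HZ_congr_right (Coh.toAb F) (top_inf_eq W).symm _ _ i).1 h1
    rw [← TopCat.Presheaf.germ_res_apply _ (homOfLE hWV) x hxW,
      ← TopCat.Presheaf.germ_res_apply _ (homOfLE hWV) x hxW]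
    refine congrArg _ ?_
    refine (NatTrans.naturality_apply _ (homOfLE hWV).op s).symm.trans ?_
    refine Eq.trans ?_ (NatTrans.naturality_apply _ (homOfLE hWV).op s)
    rw [Subsingleton.elim ((SuppFam.HZpre (Coh.toAb F) i hle).map (homOfLE hWV).op s) 0]
    exact (map_zero _).trans (map_zero _).symm
  have hab : IsZero (Coh.toAb ((((LocSuppLib.gammaLC (V₁ := (⊤ : X.Opens)) (V₂ := U)).mapHomologicalComplex
      (ComplexShape.up ℕ)).obj I.cocomplex).homology i)) := hz.of_iso (e ≪≫ e')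
  refine IsZero.of_iso ?_ (I.isoRightDerivedObj (DCoh.gammaZ U.ι) i ≪≫
    (ShortComplex.homologyMapIso ((I.cocomplex.sc i).mapNatIso (gammaLCTopIso U))).symm)
  rw [IsZero.iff_id_eq_zero]
  exact (QCohLib.toAbF X).map_injective (hab.eq_of_src _ _)

end LocEqnLib
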